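import Groth.Agent.StableSub.Glue
import Mathlib

/-!
# Finitely generated stable submodules for groups with projective coordinate ring
-/

set_option autoImplicit false
set_option linter.style.haveILetI false

universe u

noncomputable section

open CategoryTheory CategoryTheory.Limits MonoidalCategory CartesianMonoidalCategory MonObj GrpObj AlgebraicGeometry
open scoped TensorProduct

namespace Groth.Agent.StableSub

variable {R : Type u} [CommRing R]

section Tensor

theorem lTensor_pi_eq_zero {κ : Type u} [Finite κ] {Z : κ → Type u} [∀ i, AddCommGroup (Z i)]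
    [∀ i, Module R (Z i)] (Q : Type u) [AddCommGroup Q] [Module R Q] (w : Q ⊗[R] ((i : κ) → Z i))
    (h : ∀ i, (LinearMap.proj i : ((i : κ) → Z i) →ₗ[R] Z i).lTensor Q w = 0) : w = 0 := by
  classical
  haveI := Fintype.ofFinite κ
  apply (TensorProduct.piRight R R Q Z).injective
  rw [map_zero]
  funext i
  rw [Pi.zero_apply, ← h i]
  clear h
  induction w using TensorProduct.induction_on with
  | zero => simp
  | tmul b e => simp
  | add a c ha hc => simp only [map_add, Pi.add_apply, ha, hc]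

theorem lTensor_proj_sum_single {κ : Type u} [Fintype κ] [DecidableEq κ] {Z : κ → Type u}
    [∀ i, AddCommGroup (Z i)] [∀ i, Module R (Z i)] (Q : Type u) [AddCommGroup Q] [Module R Q]
    (z : ∀ i, Q ⊗[R] Z i) (j : κ) :
    (LinearMap.proj j : ((i : κ) → Z i) →ₗ[R] Z j).lTensor Q
      (∑ i, (LinearMap.single R Z i).lTensor Q (z i)) = z j := by
  rw [map_sum]
  rw [Finset.sum_eq_single j]
  · rw [← LinearMap.comp_apply, ← LinearMap.lTensor_comp, LinearMap.proj_comp_single_same,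
      LinearMap.lTensor_id, LinearMap.id_apply]
  · intro i _ hi
    rw [← LinearMap.comp_apply, ← LinearMap.lTensor_comp, LinearMap.proj_comp_single_ne R Z j i hi.symm,
      LinearMap.lTensor_zero, LinearMap.zero_apply]
  · intro h
    exact absurd (Finset.mem_univ j) h

end Tensor

section Main

variable {G : Over (Spec (CommRingCat.of R))} [GrpObj G]
variable {E : Type u} [AddCommGroup E] [Module R E] (m : VecGrp.GMod G E)

attribute [local instance] secAlg topAlg

variable (F : Finset G.left.affineOpens) (hF : ∀ x : G.left, ∃ U ∈ F, x ∈ U.1)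
  (W : F × F → Finset G.left.affineOpens) (hW : ∀ p, ∀ V ∈ W p, V.1 ≤ p.1.1.1 ∧ V.1 ≤ p.2.1.1)
  (hW' : ∀ p : F × F, ∀ x, x ∈ p.1.1.1 → x ∈ p.2.1.1 → ∃ V ∈ W p, x ∈ V.1)

include hF in
/-- Evaluation of the universal orbit element. -/
theorem rho_eq_Wmap (x : E) (z : VecGrp.W R E Γ(G.left, ⊤))
    (hz : ∀ j : F, VecGrp.Wmap (evA (secPt j.1)) z = m.ρ _ (secPt j.1) (1 ⊗ₜ[R] x))
    (B : Type u) [CommRing B] [Algebra R B] (h : VecGrp.pt R B ⟶ G) :
    m.ρ B h (1 ⊗ₜ[R] x) = VecGrp.Wmap (evA h) z := by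
  rw [← sub_eq_zero]
  refine eq_zero_of_locally _ fun p => ?_
  obtain ⟨f, hf, U, hU, ψ, hψ⟩ := exists_factor F hF h p
  refine ⟨f, hf, ?_⟩
  have hcomp : ∀ {B B' : Type u} [CommRing B] [Algebra R B] [CommRing B'] [Algebra R B'] (φ : B →ₐ[R] B')
      (ψ : Γ(G.left, ⊤) →ₐ[R] B), VecGrp.Wmap (M := E) φ (VecGrp.Wmap ψ z) = VecGrp.Wmap (φ.comp ψ) z :=
    fun φ ψ => (LinearMap.rTensor_comp_apply E _ _ z).symm
  rw [map_sub, m.naturality, hψ, VecGrp.Wmap_tmul, map_one, hcomp, ← evA_ptMap, hψ, evA_ptMap, ← hcomp,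
    hz ⟨U, hU⟩, ← map_one ψ, ← VecGrp.Wmap_tmul (M := E) ψ, ← m.naturality, sub_self]

include hF hW hW' in
theorem exists_orbit [Module.Flat R E] (x : E) :
    ∃ z : VecGrp.W R E Γ(G.left, ⊤), ∀ (B : Type u) [CommRing B] [Algebra R B] (h : VecGrp.pt R B ⟶ G),
      m.ρ B h (1 ⊗ₜ[R] x) = VecGrp.Wmap (evA h) z := by
  classical
  let ρc : ∀ j : F, E ⊗[R] Γ(G.left, j.1.1) := fun j =>
    TensorProduct.comm R _ E (m.ρ _ (secPt j.1) (1 ⊗ₜ[R] x))
  let v : E ⊗[R] (∀ j : F, Γ(G.left, j.1.1)) :=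
    ∑ j, (LinearMap.single R (fun j : F => Γ(G.left, j.1.1)) j).lTensor E (ρc j)
  have hv : (dP F W hW).lTensor E v = 0 := by
    refine lTensor_pi_eq_zero E _ fun q => ?_
    rw [← LinearMap.comp_apply, ← LinearMap.lTensor_comp,
      show (LinearMap.proj q).comp (dP F W hW) =
        (resAlg (hW q.1 q.2.1 q.2.2).1).toLinearMap.comp (LinearMap.proj q.1.1) -
          (resAlg (hW q.1 q.2.1 q.2.2).2).toLinearMap.comp (LinearMap.proj q.1.2) from LinearMap.proj_pi _ q,
      LinearMap.lTensor_sub, LinearMap.sub_apply, LinearMap.lTensor_comp, LinearMap.lTensor_comp,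
      LinearMap.comp_apply, LinearMap.comp_apply, lTensor_proj_sum_single, lTensor_proj_sum_single, sub_eq_zero]
    have hc : ∀ (U V : G.left.affineOpens) (h : V.1 ≤ U.1),
        (resAlg h).toLinearMap.lTensor E (TensorProduct.comm R _ E (m.ρ _ (secPt U) (1 ⊗ₜ[R] x))) =
          TensorProduct.comm R _ E (m.ρ _ (secPt V) (1 ⊗ₜ[R] x)) := by
      intro U V h
      generalize hw : m.ρ _ (secPt U) (1 ⊗ₜ[R] x) = w
      rw [show m.ρ _ (secPt V) (1 ⊗ₜ[R] x) = VecGrp.Wmap (resAlg h) w by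
        rw [← hw, m.naturality, ptMap_resAlg, VecGrp.Wmap_tmul, map_one]]
      clear hw
      induction w using TensorProduct.induction_on with
      | zero => simp
      | tmul b e => simp
      | add p q hp hq => simp only [map_add, hp, hq]
    exact (hc _ _ _).trans (hc _ _ _).symm
  obtain ⟨z, hz⟩ := (Module.Flat.lTensor_exact E (exact_toP F W hW hF hW') v).1 hv
  refine ⟨TensorProduct.comm R E _ z, fun B _ _ h => rho_eq_Wmap m F hF x _ (fun j => ?_) B h⟩
  have h1 := congrArg ((LinearMap.proj j : (∀ j : F, Γ(G.left, j.1.1)) →ₗ[R] _).lTensor E) hz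
  rw [lTensor_proj_sum_single, ← LinearMap.comp_apply, ← LinearMap.lTensor_comp] at h1
  have h2 : ∀ w : E ⊗[R] Γ(G.left, ⊤), VecGrp.Wmap (evA (secPt j.1)) (TensorProduct.comm R E _ w) =
      TensorProduct.comm R E _ (((LinearMap.proj j).comp (toP F)).lTensor E w) := by
    intro w
    induction w using TensorProduct.induction_on with
    | zero => simp
    | tmul e a => rfl
    | add a c ha hc => simp only [map_add, ha, hc]
  rw [h2, h1]
  exact (TensorProduct.comm R _ E).symm_apply_apply _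

/-- The two ways of computing the action of a product point on an orbit element. -/
theorem orbit_two_step (C₁ C₂ : Type u) [CommRing C₁] [Algebra R C₁] [CommRing C₂] [Algebra R C₂]
    (g₁ : VecGrp.pt R C₁ ⟶ G) (g₂ : VecGrp.pt R C₂ ⟶ G) {κ : Type u} [Fintype κ]
    (x : E) (a : κ → Γ(G.left, ⊤)) (c : κ → E)
    (hz : ∀ (B : Type u) [CommRing B] [Algebra R B] (h : VecGrp.pt R B ⟶ G),
      m.ρ B h (1 ⊗ₜ[R] x) = ∑ k, evA h (a k) ⊗ₜ[R] c k)
    (b : κ → C₁ ⊗[R] Γ(G.left, ⊤))
    (hb : ∀ k, (evA g₂).toLinearMap.lTensor C₁ (b k) =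
      evA ((VecGrp.ptMap (Algebra.TensorProduct.includeLeft : C₁ →ₐ[R] C₁ ⊗[R] C₂) ≫ g₁) *
        (VecGrp.ptMap (Algebra.TensorProduct.includeRight : C₂ →ₐ[R] C₁ ⊗[R] C₂) ≫ g₂)) (a k)) :
    (evA g₂).toLinearMap.lTensor (C₁ ⊗[R] E) (∑ k, m.ρ C₁ g₁ (1 ⊗ₜ[R] c k) ⊗ₜ[R] a k) =
      (evA g₂).toLinearMap.lTensor (C₁ ⊗[R] E)
        (∑ k, (TensorProduct.rightComm R C₁ E Γ(G.left, ⊤)).symm (b k ⊗ₜ[R] c k)) := by
  apply (TensorProduct.rightComm R C₁ E C₂).injective
  let inL : C₁ →ₐ[R] C₁ ⊗[R] C₂ := Algebra.TensorProduct.includeLeft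
  let inR : C₂ →ₐ[R] C₁ ⊗[R] C₂ := Algebra.TensorProduct.includeRight
  have h1 : ∀ (w : C₁ ⊗[R] E) (t : Γ(G.left, ⊤)),
      TensorProduct.rightComm R C₁ E C₂ ((evA g₂).toLinearMap.lTensor _ (w ⊗ₜ[R] t)) =
        inR (evA g₂ t) • VecGrp.Wmap inL w := by
    intro w t
    induction w using TensorProduct.induction_on with
    | zero => simp
    | tmul β e => simp [inL, inR, TensorProduct.smul_tmul']
    | add p q hp hq => simp only [TensorProduct.add_tmul, map_add, hp, hq, smul_add]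
  have h2 : ∀ (β : C₁ ⊗[R] Γ(G.left, ⊤)) (e : E),
      TensorProduct.rightComm R C₁ E C₂ ((evA g₂).toLinearMap.lTensor _
        ((TensorProduct.rightComm R C₁ E Γ(G.left, ⊤)).symm (β ⊗ₜ[R] e))) =
        ((evA g₂).toLinearMap.lTensor C₁ β) ⊗ₜ[R] e := by
    intro β e
    induction β using TensorProduct.induction_on with
    | zero => simp
    | tmul p t => simp
    | add p q hp hq => simp only [TensorProduct.add_tmul, map_add, hp, hq]
  simp only [map_sum, h1, h2, hb]
  have h3 := hz _ ((VecGrp.ptMap inL ≫ g₁) * (VecGrp.ptMap inR ≫ g₂))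
  rw [map_mul, LinearEquiv.mul_apply, hz _ (VecGrp.ptMap inR ≫ g₂), map_sum] at h3
  refine Eq.trans (Finset.sum_congr rfl fun k _ => ?_) h3
  rw [show evA (VecGrp.ptMap inR ≫ g₂) (a k) ⊗ₜ[R] c k =
      inR (evA g₂ (a k)) • ((1 : C₁ ⊗[R] C₂) ⊗ₜ[R] c k) by
    rw [evA_ptMap, TensorProduct.smul_tmul', smul_eq_mul, _root_.mul_one, AlgHom.comp_apply]]
  rw [LinearEquiv.map_smul, m.naturality, VecGrp.Wmap_tmul, map_one]

include hF hW hW' in
theorem exists_stable_singleton [Flat G.hom] [Module.Flat R E]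
    [hA : Module.Projective R Γ(G.left, ⊤)] (x : E) :
    ∃ N : Submodule R E, x ∈ N ∧ N.FG ∧
      ∀ y ∈ N, ∀ (B : Type u) [CommRing B] [Algebra R B] (g : VecGrp.pt R B ⟶ G),
        qB N B (m.ρ B g (1 ⊗ₜ[R] y)) = 0 := by
  classical
  obtain ⟨z, hz⟩ := exists_orbit m F hF W hW hW' x
  obtain ⟨S, hS⟩ := TensorProduct.exists_finset z
  obtain ⟨s, hs⟩ := Module.projective_def.1 hA
  let L : Finset Γ(G.left, ⊤) := S.biUnion fun i => (s i.1).support
  let π : L → (Γ(G.left, ⊤) →ₗ[R] R) := fun l => (Finsupp.lapply l.1).comp s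
  let c : L → E := fun l => ∑ i ∈ S, π l i.1 • i.2
  have hπ : ∀ i ∈ S, i.1 = ∑ l : L, π l i.1 • l.1 := by
    intro i hi
    rw [show (∑ l : L, π l i.1 • l.1) = ∑ l ∈ L, s i.1 l • l from L.sum_coe_sort fun l => s i.1 l • l]
    conv_lhs => rw [← hs i.1]
    rw [Finsupp.linearCombination_apply, Finsupp.sum]
    refine Finset.sum_subset (fun l hl => Finset.mem_biUnion.2 ⟨i, hi, hl⟩) fun l _ hl => ?_
    rw [Finsupp.notMem_support_iff.1 hl, zero_smul]
  have hzc : z = ∑ l : L, l.1 ⊗ₜ[R] c l := by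
    rw [hS]
    conv_lhs => enter [2, i]; rw [show i.1 ⊗ₜ[R] i.2 = i.1 ⊗ₜ[R] i.2 from rfl]
    rw [Finset.sum_congr rfl fun i hi => show i.1 ⊗ₜ[R] i.2 = (∑ l : L, π l i.1 • l.1) ⊗ₜ[R] i.2 by rw [← hπ i hi]]
    simp only [TensorProduct.sum_tmul, c, TensorProduct.tmul_sum, TensorProduct.smul_tmul]
    exact Finset.sum_comm
  have hcc : ∀ l : L, c l = ∑ k : L, π l k.1 • c k := by
    intro l
    have e1 : TensorProduct.lid R E ((π l).rTensor E z) = c l := by
      rw [hS, map_sum, map_sum]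
      exact Finset.sum_congr rfl fun i _ => by rw [LinearMap.rTensor_tmul, TensorProduct.lid_tmul]
    rw [← e1, hzc, map_sum, map_sum]
    exact Finset.sum_congr rfl fun i _ => by rw [LinearMap.rTensor_tmul, TensorProduct.lid_tmul]
  let N : Submodule R E := Submodule.span R (Set.range c)
  have hcN : ∀ l, c l ∈ N := fun l => Submodule.subset_span ⟨l, rfl⟩
  refine ⟨N, ?_, Submodule.fg_span (Set.finite_range c), ?_⟩
  · have h1 := hz R 1
    rw [map_one, LinearEquiv.coe_one, id_eq, hzc, map_sum] at h1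
    have h2 := congrArg (TensorProduct.lid R E) h1
    rw [TensorProduct.lid_tmul, one_smul, map_sum] at h2
    rw [h2]
    refine Submodule.sum_mem _ fun l _ => ?_
    rw [VecGrp.Wmap_tmul, TensorProduct.lid_tmul]
    exact N.smul_mem _ (hcN l)
  intro y hy
  induction hy using Submodule.span_induction with
  | zero => intro B _ _ g; simp
  | add a b _ _ ha hb => intro B _ _ g; rw [TensorProduct.tmul_add, map_add, map_add, ha B g, hb B g, add_zero]
  | smul r a _ ha =>
    intro B _ _ g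
    rw [TensorProduct.tmul_smul, ← algebraMap_smul B r ((1 : B) ⊗ₜ[R] a), LinearEquiv.map_smul,
      LinearMap.map_smul, ha B g, smul_zero]
  | mem y hy =>
    obtain ⟨l, rfl⟩ := hy
    intro B _ _ g
    refine of_sections m F hF N (c l) (fun i hi => ?_) B g
    let Bi : Type u := Γ(G.left, i.1)
    haveI : Module.Flat R Bi := flat_sec i
    haveI : Module.Flat R (Bi ⊗[R] E) := inferInstance
    let inL : ∀ j : F, Bi →ₐ[R] Bi ⊗[R] Γ(G.left, j.1.1) := fun j => Algebra.TensorProduct.includeLeft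
    let inR : ∀ j : F, Γ(G.left, j.1.1) →ₐ[R] Bi ⊗[R] Γ(G.left, j.1.1) := fun j =>
      Algebra.TensorProduct.includeRight
    let pt₂ : ∀ j : F, VecGrp.pt R (Bi ⊗[R] Γ(G.left, j.1.1)) ⟶ G := fun j =>
      (VecGrp.ptMap (inL j) ≫ secPt i) * (VecGrp.ptMap (inR j) ≫ secPt j.1)
    -- pulling back a function along the multiplication
    have hb : ∀ a : Γ(G.left, ⊤), ∃ b : Bi ⊗[R] Γ(G.left, ⊤), ∀ j : F,
        ((LinearMap.proj j).comp (toP F)).lTensor Bi b = evA (pt₂ j) a := by
      intro a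
      let v : Bi ⊗[R] (∀ j : F, Γ(G.left, j.1.1)) :=
        ∑ j, (LinearMap.single R (fun j : F => Γ(G.left, j.1.1)) j).lTensor Bi (evA (pt₂ j) a)
      have hv : (dP F W hW).lTensor Bi v = 0 := by
        refine lTensor_pi_eq_zero Bi _ fun q => ?_
        rw [← LinearMap.comp_apply, ← LinearMap.lTensor_comp,
          show (LinearMap.proj q).comp (dP F W hW) =
            (resAlg (hW q.1 q.2.1 q.2.2).1).toLinearMap.comp (LinearMap.proj q.1.1) -
              (resAlg (hW q.1 q.2.1 q.2.2).2).toLinearMap.comp (LinearMap.proj q.1.2) from LinearMap.proj_pi _ q,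
          LinearMap.lTensor_sub, LinearMap.sub_apply, LinearMap.lTensor_comp, LinearMap.lTensor_comp,
          LinearMap.comp_apply, LinearMap.comp_apply, lTensor_proj_sum_single, lTensor_proj_sum_single, sub_eq_zero]
        have hc : ∀ (j : F) (V : G.left.affineOpens) (h : V.1 ≤ j.1.1),
            (resAlg h).toLinearMap.lTensor Bi (evA (pt₂ j) a) =
              evA ((VecGrp.ptMap (Algebra.TensorProduct.includeLeft : Bi →ₐ[R] Bi ⊗[R] Γ(G.left, V.1)) ≫ secPt i) *
                (VecGrp.ptMap (Algebra.TensorProduct.includeRight : Γ(G.left, V.1) →ₐ[R] Bi ⊗[R] Γ(G.left, V.1)) ≫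
                  secPt V)) a := by
          intro j V h
          show (Algebra.TensorProduct.map (AlgHom.id R Bi) (resAlg h)) (evA (pt₂ j) a) = _
          rw [← AlgHom.comp_apply, ← evA_ptMap, MonObj.comp_mul, ← Category.assoc, ← Category.assoc,
            ← ptMap_comp, ← ptMap_comp, Algebra.TensorProduct.map_comp_includeLeft,
            Algebra.TensorProduct.map_comp_includeRight, AlgHom.comp_id, ptMap_comp, Category.assoc, ptMap_resAlg]
        exact (hc _ _ _).trans (hc _ _ _).symm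
      obtain ⟨b, hb⟩ := (Module.Flat.lTensor_exact Bi (exact_toP F W hW hF hW') v).1 hv
      refine ⟨b, fun j => ?_⟩
      rw [LinearMap.lTensor_comp, LinearMap.comp_apply, hb, lTensor_proj_sum_single]
    choose b hb using hb
    let perm : ∀ (X : Type u) [AddCommGroup X] [Module R X], (Bi ⊗[R] E) ⊗[R] X ≃ₗ[R] (Bi ⊗[R] X) ⊗[R] E :=
      fun X _ _ => TensorProduct.rightComm R Bi E X
    let u₁ : (Bi ⊗[R] E) ⊗[R] Γ(G.left, ⊤) := ∑ k : L, m.ρ Bi (secPt i) (1 ⊗ₜ[R] c k) ⊗ₜ[R] k.1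
    let u₂ : (Bi ⊗[R] E) ⊗[R] Γ(G.left, ⊤) := ∑ k : L, (perm _).symm (b k.1 ⊗ₜ[R] c k)
    have hu : u₁ = u₂ := by
      refine Module.Flat.lTensor_preserves_injective_linearMap (toP F) (toP_injective F hF) ?_
      rw [← sub_eq_zero]
      refine lTensor_pi_eq_zero _ _ fun j => ?_
      rw [map_sub, sub_eq_zero, ← LinearMap.comp_apply, ← LinearMap.lTensor_comp, ← LinearMap.comp_apply,
        ← LinearMap.lTensor_comp, show (LinearMap.proj j).comp (toP F) = (evA (secPt j.1)).toLinearMap from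
          LinearMap.proj_pi _ j]
      refine orbit_two_step m Bi _ (secPt i) (secPt j.1) x (fun k : L => k.1) c (fun B _ _ h => ?_)
        (fun k => b k.1) (fun k => ?_)
      · rw [hz B h, hzc, map_sum]
        rfl
      · rw [← hb k.1 j, show (LinearMap.proj j).comp (toP F) = (evA (secPt j.1)).toLinearMap from
          LinearMap.proj_pi _ j]
    have key : ∀ w : (Bi ⊗[R] E) ⊗[R] Γ(G.left, ⊤),
        u₁ = w → m.ρ Bi (secPt i) (1 ⊗ₜ[R] c l) =
          TensorProduct.rid R (Bi ⊗[R] E) ((π l).lTensor _ w) := by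
      rintro w rfl
      rw [hcc l, TensorProduct.tmul_sum, map_sum, map_sum, map_sum]
      refine Finset.sum_congr rfl fun k _ => ?_
      rw [LinearMap.lTensor_tmul, TensorProduct.rid_tmul, TensorProduct.tmul_smul,
        ← algebraMap_smul Bi, LinearEquiv.map_smul, algebraMap_smul]
    show qB N Bi (m.ρ Bi (secPt i) (1 ⊗ₜ[R] c l)) = 0
    rw [key u₂ hu]
    simp only [u₂, map_sum]
    refine Finset.sum_eq_zero fun k _ => ?_
    have h5 : ∀ β : Bi ⊗[R] Γ(G.left, ⊤),
        TensorProduct.rid R (Bi ⊗[R] E) ((π l).lTensor _ ((perm _).symm (β ⊗ₜ[R] c k))) =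
          (TensorProduct.rid R Bi ((π l).lTensor Bi β)) ⊗ₜ[R] c k := by
      intro β
      induction β using TensorProduct.induction_on with
      | zero => simp
      | tmul p a => simp [perm, TensorProduct.smul_tmul']
      | add p q hp hq => simp only [TensorProduct.add_tmul, map_add, hp, hq]
    rw [h5, qB, LinearMap.baseChange_tmul,
      show N.mkQ (c k) = 0 from (Submodule.Quotient.mk_eq_zero _).2 (hcN k), TensorProduct.tmul_zero]

/-- A finitely generated submodule of a flat module lies in a finitely generated stable one. -/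
theorem exists_stable_projective [Flat G.hom] [QuasiCompact G.hom] [QuasiSeparated G.hom] [Module.Flat R E]
    [Module.Projective R Γ(G.left, ⊤)] (M : Submodule R E) (hM : M.FG) :
    ∃ N : Submodule R E, M ≤ N ∧ N.FG ∧
      ∀ (B : Type u) [CommRing B] [Algebra R B] (g : VecGrp.pt R B ⟶ G) (x : E), x ∈ N →
        m.ρ B g ((1 : B) ⊗ₜ[R] x) ∈ LinearMap.range (N.subtype.baseChange B) := by
  classical
  haveI : CompactSpace G.left := QuasiCompact.compactSpace_of_compactSpace G.hom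
  obtain ⟨F, hF⟩ : ∃ F : Finset G.left.affineOpens, ∀ x : G.left, ∃ U ∈ F, x ∈ U.1 := by
    obtain ⟨F, hF⟩ := isCompact_univ.elim_finite_subcover
      (fun U : G.left.affineOpens => (U.1 : Set G.left)) (fun U => U.1.2) (fun x _ => by
        obtain ⟨_, ⟨U, hU, rfl⟩, hx, -⟩ := G.left.isBasis_affineOpens.exists_subset_of_mem_open
          (Set.mem_univ x) isOpen_univ
        exact Set.mem_iUnion.2 ⟨⟨U, hU⟩, hx⟩)
    exact ⟨F, fun x => by simpa using hF (Set.mem_univ x)⟩
  obtain ⟨W, hW, hW'⟩ := exists_pair_cover F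
  obtain ⟨s, rfl⟩ := hM
  choose N hxN hNfg hNst using fun x => exists_stable_singleton m F hF W hW hW' x
  refine ⟨s.sup N, Submodule.span_le.2 fun x hx => Finset.le_sup (f := N) hx (hxN x),
    Finset.sup_induction Submodule.fg_bot (fun _ ha _ hb => ha.sup hb) (fun x _ => hNfg x), ?_⟩
  intro B _ _ g y hy
  rw [← qB_eq_zero_iff]
  suffices h : ∀ t : Finset E, ∀ y ∈ t.sup N, qB (t.sup N) B (m.ρ B g (1 ⊗ₜ[R] y)) = 0 from h s y hy
  intro t
  induction t using Finset.induction with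
  | empty =>
    intro y hy
    rw [Finset.sup_empty, Submodule.mem_bot] at hy
    simp [hy]
  | insert a t _ ih =>
    intro y hy
    rw [Finset.sup_insert] at hy ⊢
    obtain ⟨y₁, h₁, y₂, h₂, rfl⟩ := Submodule.mem_sup.1 hy
    rw [TensorProduct.tmul_add, map_add, map_add, qB_mono le_sup_left (hNst a y₁ h₁ B g),
      qB_mono le_sup_right (ih y₂ h₂), add_zero]

end Main

end Groth.Agent.StableSub
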