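import Groth.Prelude.Def_VecGrp
import Mathlib

/-!
# Finitely generated stable submodules of modules over flat quasi-compact group schemes
-/

set_option autoImplicit false
set_option linter.style.haveILetI false

universe u

noncomputable section

open CategoryTheory CategoryTheory.Limits MonoidalCategory CartesianMonoidalCategory MonObj GrpObj AlgebraicGeometry
open scoped TensorProduct

namespace Groth.Agent.StableSub

variable {R : Type u} [CommRing R]

section Tensor

variable {E : Type u} [AddCommGroup E] [Module R E]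
variable {B B' : Type u} [CommRing B] [Algebra R B] [CommRing B'] [Algebra R B']

/-- The reduction modulo a submodule. -/
abbrev qB (P : Submodule R E) (B : Type u) [CommRing B] [Algebra R B] :
    VecGrp.W R E B →ₗ[B] VecGrp.W R (E ⧸ P) B :=
  P.mkQ.baseChange B

theorem qB_eq_zero_iff (P : Submodule R E) (z : VecGrp.W R E B) :
    qB P B z = 0 ↔ z ∈ LinearMap.range (P.subtype.baseChange B) :=
  lTensor_exact B (LinearMap.exact_subtype_mkQ P) (Submodule.mkQ_surjective P) z

theorem qB_mono {P P' : Submodule R E} (h : P ≤ P') {z : VecGrp.W R E B} (hz : qB P B z = 0) :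
    qB P' B z = 0 := by
  have : P'.mkQ = (Submodule.factor h).comp P.mkQ := (Submodule.factor_comp_mk h).symm
  rw [qB, this, LinearMap.baseChange_comp, LinearMap.comp_apply]
  change (Submodule.factor h).baseChange B (qB P B z) = 0
  rw [hz, map_zero]

theorem exists_fg_qB_eq_zero (z : VecGrp.W R E B) : ∃ P : Submodule R E, P.FG ∧ qB P B z = 0 := by
  induction z using TensorProduct.induction_on with
  | zero => exact ⟨⊥, Submodule.fg_bot, map_zero _⟩
  | tmul b e =>
    refine ⟨Submodule.span R {e}, Submodule.fg_span_singleton e, ?_⟩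
    rw [qB, LinearMap.baseChange_tmul,
      (Submodule.Quotient.mk_eq_zero _).2 (Submodule.mem_span_singleton_self e) |> fun h =>
        (show (Submodule.span R {e}).mkQ e = 0 from h), TensorProduct.tmul_zero]
  | add x y hx hy =>
    obtain ⟨P, hP, hx⟩ := hx
    obtain ⟨P', hP', hy⟩ := hy
    exact ⟨P ⊔ P', hP.sup hP', by rw [map_add, qB_mono le_sup_left hx, qB_mono le_sup_right hy, add_zero]⟩

theorem eq_zero_of_locally (z : VecGrp.W R E B)
    (h : ∀ p : PrimeSpectrum B, ∃ f : B, f ∉ p.asIdeal ∧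
      VecGrp.Wmap (IsScalarTower.toAlgHom R B (Localization.Away f)) z = 0) : z = 0 := by
  by_contra hz
  obtain ⟨q, hq, hle⟩ := Ideal.exists_le_maximal (LinearMap.ker (LinearMap.toSpanSingleton B _ z))
    (fun e => hz (by simpa using (Ideal.eq_top_iff_one _).1 e))
  obtain ⟨f, hf, hf0⟩ := h ⟨q, hq.isPrime⟩
  have h1 : ∀ y : VecGrp.W R E B,
      TensorProduct.AlgebraTensorModule.cancelBaseChange R B B (Localization.Away f) E
        ((1 : Localization.Away f) ⊗ₜ[B] y) =
      VecGrp.Wmap (IsScalarTower.toAlgHom R B (Localization.Away f)) y := by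
    intro y
    induction y using TensorProduct.induction_on with
    | zero => simp
    | tmul b e => simp [Algebra.smul_def]
    | add x y hx hy => rw [TensorProduct.tmul_add, map_add, map_add, hx, hy]
  have h2 : (TensorProduct.mk B (Localization.Away f) (VecGrp.W R E B) 1) z = 0 := by
    apply (TensorProduct.AlgebraTensorModule.cancelBaseChange R B B (Localization.Away f) E).injective
    rw [map_zero]
    exact (h1 z).trans hf0
  obtain ⟨⟨_, n, rfl⟩, hc⟩ := (IsLocalizedModule.eq_zero_iff (Submonoid.powers f)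
    (TensorProduct.mk B (Localization.Away f) (VecGrp.W R E B) 1)).1 h2
  exact hf (hq.isPrime.mem_of_pow_mem n (hle (by simpa [Submonoid.smul_def] using hc)))

theorem lTensor_prod_pi_eq_zero {X Y : Type u} [AddCommGroup X] [Module R X] [AddCommGroup Y] [Module R Y]
    {κ : Type u} [Finite κ] {Z : κ → Type u} [∀ i, AddCommGroup (Z i)] [∀ i, Module R (Z i)]
    (f : X →ₗ[R] Y) (g : ∀ i, X →ₗ[R] Z i) (Q : Type u) [AddCommGroup Q] [Module R Q] (w : Q ⊗[R] X)
    (hf : f.lTensor Q w = 0) (hg : ∀ i, (g i).lTensor Q w = 0) :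
    (f.prod (LinearMap.pi g)).lTensor Q w = 0 := by
  classical
  haveI := Fintype.ofFinite κ
  apply (TensorProduct.prodRight R R Q Y ((i : κ) → Z i)).injective
  have h1 : ∀ v : Q ⊗[R] X, TensorProduct.prodRight R R Q Y ((i : κ) → Z i)
      ((f.prod (LinearMap.pi g)).lTensor Q v) = (f.lTensor Q v, (LinearMap.pi g).lTensor Q v) := by
    intro v
    induction v using TensorProduct.induction_on with
    | zero => simp only [map_zero]; rfl
    | tmul b e => simp
    | add a c ha hc => simp only [map_add, ha, hc, Prod.mk_add_mk]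
  have h2 : ∀ (v : Q ⊗[R] X) (i : κ), TensorProduct.piRight R R Q Z ((LinearMap.pi g).lTensor Q v) i =
      (g i).lTensor Q v := by
    intro v i
    induction v using TensorProduct.induction_on with
    | zero => simp
    | tmul b e => simp
    | add a c ha hc => simp only [map_add, Pi.add_apply, ha, hc]
  rw [h1, map_zero, hf]
  refine Prod.ext rfl ((TensorProduct.piRight R R Q Z).injective ?_)
  refine funext fun i => (h2 w i).trans ((hg i).trans ?_)
  rw [Prod.snd_zero, map_zero, Pi.zero_apply]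

end Tensor

section Group

variable {G : Over (Spec (CommRingCat.of R))}

/-- The algebra structure on the sections over an affine open. -/
@[implicit_reducible]
def secAlg (U : G.left.affineOpens) : Algebra R Γ(G.left, U.1) :=
  (Spec.preimage (U.2.fromSpec ≫ G.hom)).hom.toAlgebra

attribute [local instance] secAlg

/-- The tautological point over an affine open. -/
def secPt (U : G.left.affineOpens) : VecGrp.pt R Γ(G.left, U.1) ⟶ G :=
  Over.homMk U.2.fromSpec (Spec.map_preimage _).symm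

theorem flat_sec [Flat G.hom] (U : G.left.affineOpens) : Module.Flat R Γ(G.left, U.1) := by
  haveI : IsOpenImmersion U.2.fromSpec := U.2.isOpenImmersion_fromSpec
  have h : Flat (Spec.map (Spec.preimage (U.2.fromSpec ≫ G.hom))) := by
    rw [Spec.map_preimage]
    infer_instance
  exact (HasRingHomProperty.Spec_iff (P := @Flat)).1 h

theorem exists_factor (F : Finset G.left.affineOpens) (hF : ∀ x : G.left, ∃ U ∈ F, x ∈ U.1)
    {B : Type u} [CommRing B] [Algebra R B] (g : VecGrp.pt R B ⟶ G) (p : PrimeSpectrum B) :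
    ∃ f : B, f ∉ p.asIdeal ∧ ∃ U ∈ F, ∃ ψ : Γ(G.left, U.1) →ₐ[R] Localization.Away f,
      VecGrp.ptMap (IsScalarTower.toAlgHom R B (Localization.Away f)) ≫ g = VecGrp.ptMap ψ ≫ secPt U := by
  obtain ⟨U, hUF, hxU⟩ := hF (g.left.base p)
  obtain ⟨_, ⟨f, rfl⟩, hpf, hfU⟩ := PrimeSpectrum.isTopologicalBasis_basic_opens.exists_subset_of_mem_open
    (u := (g.left ⁻¹ᵁ U.1).carrier) hxU (g.left ⁻¹ᵁ U.1).2
  refine ⟨f, hpf, U, hUF, ?_⟩
  let l : Spec (CommRingCat.of (Localization.Away f)) ⟶ Spec (CommRingCat.of B) :=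
    Spec.map (CommRingCat.ofHom (algebraMap B (Localization.Away f)))
  have hrange : Set.range (l ≫ g.left).base ⊆ Set.range U.2.fromSpec.base := by
    rw [U.2.range_fromSpec]
    rintro _ ⟨q, rfl⟩
    refine hfU ?_
    have : l.base q ∈ Set.range (PrimeSpectrum.comap (algebraMap B (Localization.Away f))) := ⟨q, rfl⟩
    rwa [PrimeSpectrum.localization_away_comap_range (Localization.Away f) f] at this
  haveI : IsOpenImmersion U.2.fromSpec := U.2.isOpenImmersion_fromSpec
  let w := IsOpenImmersion.lift U.2.fromSpec (l ≫ g.left) hrange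
  have hw : w ≫ U.2.fromSpec = l ≫ g.left := IsOpenImmersion.lift_fac _ _ _
  let ψ : Γ(G.left, U.1) →ₐ[R] Localization.Away f :=
    { toRingHom := (Spec.preimage w).hom
      commutes' := fun x => by
        have e : Spec.preimage (U.2.fromSpec ≫ G.hom) ≫ Spec.preimage w =
            CommRingCat.ofHom (algebraMap R (Localization.Away f)) := by
          apply Spec.map_injective
          rw [Spec.map_comp, Spec.map_preimage, Spec.map_preimage, reassoc_of% hw, Over.w g]
          change Spec.map _ ≫ Spec.map _ = _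
          rw [← Spec.map_comp]
          rfl
        exact congr($(e) x) }
  exact ⟨ψ, Over.OverMorphism.ext (hw.symm.trans (congrArg (· ≫ U.2.fromSpec) (Spec.map_preimage w).symm))⟩

variable [GrpObj G] {E : Type u} [AddCommGroup E] [Module R E] (m : VecGrp.GMod G E)

theorem of_sections (F : Finset G.left.affineOpens) (hF : ∀ x : G.left, ∃ U ∈ F, x ∈ U.1)
    (P : Submodule R E) (y : E)
    (h : ∀ U ∈ F, qB P Γ(G.left, U.1) (m.ρ Γ(G.left, U.1) (secPt U) (1 ⊗ₜ[R] y)) = 0)
    (B : Type u) [CommRing B] [Algebra R B] (g : VecGrp.pt R B ⟶ G) :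
    qB P B (m.ρ B g (1 ⊗ₜ[R] y)) = 0 := by
  refine eq_zero_of_locally _ fun p => ?_
  obtain ⟨f, hf, U, hU, ψ, hψ⟩ := exists_factor F hF g p
  refine ⟨f, hf, ?_⟩
  rw [VecGrp.baseChange_natural, m.naturality, hψ, VecGrp.Wmap_tmul, map_one, ← map_one ψ,
    ← VecGrp.Wmap_tmul (M := E) ψ, ← m.naturality, ← VecGrp.baseChange_natural]
  exact (congrArg (VecGrp.Wmap ψ) (h U hU)).trans (map_zero _)

/-- Acting twice is acting through the product point. -/
theorem assoc_lTensor (P : Submodule R E) (C₁ C₂ : Type u) [CommRing C₁] [Algebra R C₁] [CommRing C₂]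
    [Algebra R C₂] (g₂ : VecGrp.pt R C₂ ⟶ G) (D₂ : E →ₗ[R] VecGrp.W R (E ⧸ P) C₂)
    (hD₂ : ∀ e, D₂ e = qB P C₂ (m.ρ C₂ g₂ (1 ⊗ₜ[R] e))) (w : VecGrp.W R E C₁) :
    (TensorProduct.assoc R C₁ C₂ (E ⧸ P)).symm (D₂.lTensor C₁ w) =
      qB P (C₁ ⊗[R] C₂) (m.ρ (C₁ ⊗[R] C₂) (VecGrp.ptMap Algebra.TensorProduct.includeRight ≫ g₂)
        (VecGrp.Wmap Algebra.TensorProduct.includeLeft w)) := by
  let inL : C₁ →ₐ[R] C₁ ⊗[R] C₂ := Algebra.TensorProduct.includeLeft
  let inR : C₂ →ₐ[R] C₁ ⊗[R] C₂ := Algebra.TensorProduct.includeRight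
  have hassoc : ∀ (b : C₁) (v : VecGrp.W R (E ⧸ P) C₂),
      (TensorProduct.assoc R C₁ C₂ (E ⧸ P)).symm (b ⊗ₜ[R] v) = inL b • VecGrp.Wmap inR v := by
    intro b v
    induction v using TensorProduct.induction_on with
    | zero => simp
    | tmul c e => simp [inL, inR, TensorProduct.smul_tmul']
    | add a c ha hc => rw [TensorProduct.tmul_add, map_add, map_add, smul_add, ha, hc]
  induction w using TensorProduct.induction_on with
  | zero => simp
  | tmul b e =>
    rw [LinearMap.lTensor_tmul, hassoc, hD₂, VecGrp.baseChange_natural, ← LinearMap.map_smul]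
    congr 1
    rw [m.naturality, VecGrp.Wmap_tmul, VecGrp.Wmap_tmul, map_one, ← LinearEquiv.map_smul,
      TensorProduct.smul_tmul', smul_eq_mul, _root_.mul_one]
  | add a c ha hc => simp only [map_add, ha, hc]

theorem lTensor_act_eq_zero (P : Submodule R E) (C₁ C₂ : Type u) [CommRing C₁] [Algebra R C₁] [CommRing C₂]
    [Algebra R C₂] (g₁ : VecGrp.pt R C₁ ⟶ G) (g₂ : VecGrp.pt R C₂ ⟶ G)
    (D₂ : E →ₗ[R] VecGrp.W R (E ⧸ P) C₂)
    (hD₂ : ∀ e, D₂ e = qB P C₂ (m.ρ C₂ g₂ (1 ⊗ₜ[R] e))) (x : E)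
    (hx : ∀ g : VecGrp.pt R (C₁ ⊗[R] C₂) ⟶ G, qB P (C₁ ⊗[R] C₂) (m.ρ _ g (1 ⊗ₜ[R] x)) = 0) :
    D₂.lTensor C₁ (m.ρ C₁ g₁ (1 ⊗ₜ[R] x)) = 0 := by
  apply (TensorProduct.assoc R C₁ C₂ (E ⧸ P)).symm.injective
  rw [assoc_lTensor m P C₁ C₂ g₂ D₂ hD₂, map_zero, m.naturality, VecGrp.Wmap_tmul, map_one,
    ← LinearEquiv.mul_apply, ← map_mul]
  exact hx _

/-- A finitely generated submodule lies in a finitely generated stable one. -/
theorem exists_stable [IsNoetherianRing R] [Flat G.hom] [QuasiCompact G.hom] (M : Submodule R E)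
    (hM : M.FG) : ∃ N : Submodule R E, M ≤ N ∧ N.FG ∧
      ∀ (B : Type u) [CommRing B] [Algebra R B] (g : VecGrp.pt R B ⟶ G) (x : E), x ∈ N →
        m.ρ B g ((1 : B) ⊗ₜ[R] x) ∈ LinearMap.range (N.subtype.baseChange B) := by
  classical
  haveI : CompactSpace G.left := QuasiCompact.compactSpace_of_compactSpace G.hom
  obtain ⟨F, hF⟩ : ∃ F : Finset G.left.affineOpens, ∀ x : G.left, ∃ U ∈ F, x ∈ U.1 := by
    obtain ⟨F, hF⟩ := isCompact_univ.elim_finite_subcover
      (fun U : G.left.affineOpens => (U.1 : Set G.left)) (fun U => U.1.2) (fun x _ => by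
        obtain ⟨_, ⟨U, hU, rfl⟩, hx, -⟩ := G.left.isBasis_affineOpens.exists_subset_of_mem_open
          (Set.mem_univ x) isOpen_univ
        exact Set.mem_iUnion.2 ⟨⟨U, hU⟩, hx⟩)
    exact ⟨F, fun x => by simpa using hF (Set.mem_univ x)⟩
  -- the orbit maps
  let act : ∀ U : G.left.affineOpens, E →ₗ[R] VecGrp.W R E Γ(G.left, U.1) := fun U =>
    ((m.ρ Γ(G.left, U.1) (secPt U)).toLinearMap.restrictScalars R).comp
      (TensorProduct.mk R Γ(G.left, U.1) E 1)
  obtain ⟨s, rfl⟩ := hM
  choose P hP hPz using fun (x : E) (U : G.left.affineOpens) => exists_fg_qB_eq_zero (act U x)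
  let N' : Submodule R E := Submodule.span R (s : Set E) ⊔ s.sup fun x => F.sup fun U => P x U
  have hN'fg : N'.FG := by
    refine (Submodule.fg_span s.finite_toSet).sup ?_
    refine Finset.sup_induction Submodule.fg_bot (fun _ ha _ hb => ha.sup hb) fun x _ => ?_
    exact Finset.sup_induction Submodule.fg_bot (fun _ ha _ hb => ha.sup hb) fun U _ => hP x U
  let D : E →ₗ[R] (E ⧸ N') × ∀ i : F, VecGrp.W R (E ⧸ N') Γ(G.left, i.1.1) :=
    N'.mkQ.prod (LinearMap.pi fun i : F => ((qB N' Γ(G.left, i.1.1)).restrictScalars R).comp (act i.1))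
  refine ⟨LinearMap.ker D, ?_, ?_, ?_⟩
  · rw [Submodule.span_le]
    intro x hx
    refine LinearMap.mem_ker.2 (Prod.ext ?_ (funext fun i => ?_))
    · exact (Submodule.Quotient.mk_eq_zero _).2 (Submodule.mem_sup_left (Submodule.subset_span hx))
    · refine qB_mono (le_trans ?_ le_sup_right) (hPz x i.1)
      exact le_trans (Finset.le_sup (f := fun U => P x U) i.2) (Finset.le_sup (f := fun x => F.sup fun U => P x U) hx)
  · haveI := isNoetherian_of_fg_of_noetherian N' hN'fg
    have hle : LinearMap.ker D ≤ N' := fun y hy =>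
      (Submodule.Quotient.mk_eq_zero _).1 (congrArg Prod.fst hy)
    have h := (IsNoetherian.noetherian ((LinearMap.ker D).comap N'.subtype)).map N'.subtype
    rwa [Submodule.map_comap_subtype, inf_eq_right.2 hle] at h
  intro B _ _ g x hx
  rw [← qB_eq_zero_iff]
  refine of_sections m F hF (LinearMap.ker D) x (fun j hj => ?_) B g
  rw [qB_eq_zero_iff]
  haveI := flat_sec j
  have hxs : ∀ U ∈ F, qB N' Γ(G.left, U.1) (act U x) = 0 := fun U hU =>
    congrFun (congrArg Prod.snd (LinearMap.mem_ker.1 hx)) ⟨U, hU⟩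
  refine (Module.Flat.lTensor_exact (M := Γ(G.left, j.1)) (LinearMap.exact_subtype_ker_map D)
    (m.ρ Γ(G.left, j.1) (secPt j) (1 ⊗ₜ[R] x))).1 ?_
  refine lTensor_prod_pi_eq_zero (R := R) N'.mkQ _ _ _ (hxs j hj) (fun i => ?_)
  exact lTensor_act_eq_zero m N' Γ(G.left, j.1) Γ(G.left, i.1.1) (secPt j) (secPt i.1) _ (fun e => rfl) x
    (fun g => of_sections m F hF N' x (fun U hU => hxs U hU) _ g)

end Group

end Groth.Agent.StableSub
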