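import Groth.Agent.StableSub.Basic
import Mathlib

/-!
# Functions on a quasi-compact quasi-separated scheme over an affine base as an equaliser
-/

set_option autoImplicit false
set_option linter.style.haveILetI false

universe u

noncomputable section

open CategoryTheory CategoryTheory.Limits MonoidalCategory CartesianMonoidalCategory MonObj GrpObj AlgebraicGeometry
open scoped TensorProduct

namespace Groth.Agent.StableSub

variable {R : Type u} [CommRing R] {G : Over (Spec (CommRingCat.of R))}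

attribute [local instance] secAlg

/-- The algebra of global functions. -/
@[implicit_reducible]
def topAlg : Algebra R Γ(G.left, ⊤) :=
  (((Scheme.ΓSpecIso (CommRingCat.of R)).inv ≫ G.hom.appTop).hom).toAlgebra

attribute [local instance] topAlg

/-- Restriction between affine opens. -/
def resAlg {U W : G.left.affineOpens} (h : W.1 ≤ U.1) : Γ(G.left, U.1) →ₐ[R] Γ(G.left, W.1) :=
  { toRingHom := (G.left.presheaf.map (homOfLE h).op).hom
    commutes' := fun c => by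
      have e : Spec.preimage (U.2.fromSpec ≫ G.hom) ≫ G.left.presheaf.map (homOfLE h).op =
          Spec.preimage (W.2.fromSpec ≫ G.hom) := by
        apply Spec.map_injective
        rw [Spec.map_comp, Spec.map_preimage, Spec.map_preimage, U.2.map_fromSpec_assoc W.2]
      exact congr($(e) c) }

theorem ptMap_resAlg {U W : G.left.affineOpens} (h : W.1 ≤ U.1) :
    VecGrp.ptMap (resAlg h) ≫ secPt U = secPt W :=
  Over.OverMorphism.ext (U.2.map_fromSpec W.2 (homOfLE h).op)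

theorem ptMap_comp {B B' B'' : Type u} [CommRing B] [Algebra R B] [CommRing B'] [Algebra R B']
    [CommRing B''] [Algebra R B''] (φ : B →ₐ[R] B') (ψ : B' →ₐ[R] B'') :
    VecGrp.ptMap (ψ.comp φ) = VecGrp.ptMap ψ ≫ VecGrp.ptMap φ :=
  Over.OverMorphism.ext (Spec.map_comp (CommRingCat.ofHom φ.toRingHom) (CommRingCat.ofHom ψ.toRingHom))

/-- Evaluation of global functions at a point. -/
def evA {B : Type u} [CommRing B] [Algebra R B] (h : VecGrp.pt R B ⟶ G) : Γ(G.left, ⊤) →ₐ[R] B :=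
  { toRingHom := (h.left.appTop ≫ (Scheme.ΓSpecIso (CommRingCat.of B)).hom).hom
    commutes' := fun c => by
      have e : ((Scheme.ΓSpecIso (CommRingCat.of R)).inv ≫ G.hom.appTop) ≫
          (h.left.appTop ≫ (Scheme.ΓSpecIso (CommRingCat.of B)).hom) = CommRingCat.ofHom (algebraMap R B) := by
        rw [Category.assoc, ← Category.assoc G.hom.appTop, ← Scheme.Hom.comp_appTop, Over.w h]
        change _ ≫ (Spec.map _).appTop ≫ _ = _
        rw [Scheme.ΓSpecIso_naturality, Iso.inv_hom_id_assoc]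
      exact congr($(e) c) }

theorem evA_ptMap {B B' : Type u} [CommRing B] [Algebra R B] [CommRing B'] [Algebra R B'] (φ : B →ₐ[R] B')
    (h : VecGrp.pt R B ⟶ G) : evA (VecGrp.ptMap φ ≫ h) = φ.comp (evA h) := by
  have e : (VecGrp.ptMap φ ≫ h).left.appTop ≫ (Scheme.ΓSpecIso (CommRingCat.of B')).hom =
      (h.left.appTop ≫ (Scheme.ΓSpecIso (CommRingCat.of B)).hom) ≫ CommRingCat.ofHom φ.toRingHom := by
    change (Spec.map (CommRingCat.ofHom φ.toRingHom) ≫ h.left).appTop ≫ _ = _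
    rw [Scheme.Hom.comp_appTop, Category.assoc, Scheme.ΓSpecIso_naturality, Category.assoc]
  exact AlgHom.ext fun a => congr($(e) a)

theorem fromSpec_appTop {X : Scheme.{u}} {U : X.Opens} (hU : IsAffineOpen U) :
    hU.fromSpec.appTop ≫ (Scheme.ΓSpecIso Γ(X, U)).hom = X.presheaf.map (homOfLE (le_top : U ≤ ⊤)).op := by
  have hid : (Spec Γ(X, U)).presheaf.map (homOfLE (le_top : hU.fromSpec ⁻¹ᵁ ⊤ ≤ ⊤)).op = 𝟙 _ :=
    (Spec Γ(X, U)).presheaf.map_id _
  rw [show hU.fromSpec.appTop = X.presheaf.map (homOfLE (le_top : U ≤ ⊤)).op ≫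
    (Scheme.ΓSpecIso Γ(X, U)).inv ≫ 𝟙 _ from (hU.fromSpec_app_of_le ⊤ le_top).trans (by rw [hid]; rfl)]
  erw [Category.comp_id]
  rw [Category.assoc, Iso.inv_hom_id, Category.comp_id]

theorem evA_secPt (U : G.left.affineOpens) (a : Γ(G.left, ⊤)) :
    evA (secPt U) a = G.left.presheaf.map (homOfLE (le_top : U.1 ≤ ⊤)).op a :=
  congr($(fromSpec_appTop U.2) a)

variable (F : Finset G.left.affineOpens)

theorem exists_pair_cover [QuasiSeparated G.hom] :
    ∃ W : F × F → Finset G.left.affineOpens, (∀ p, ∀ V ∈ W p, V.1 ≤ p.1.1.1 ∧ V.1 ≤ p.2.1.1) ∧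
      ∀ p : F × F, ∀ x, x ∈ p.1.1.1 → x ∈ p.2.1.1 → ∃ V ∈ W p, x ∈ V.1 := by
  classical
  haveI : QuasiSeparatedSpace G.left := quasiSeparatedSpace_of_quasiSeparated G.hom
  have h : ∀ p : F × F, ∃ W : Finset G.left.affineOpens, (∀ V ∈ W, V.1 ≤ p.1.1.1 ∧ V.1 ≤ p.2.1.1) ∧
      ∀ x, x ∈ p.1.1.1 → x ∈ p.2.1.1 → ∃ V ∈ W, x ∈ V.1 := by
    intro p
    have hc : IsCompact ((p.1.1.1 : Set G.left) ∩ p.2.1.1) :=
      QuasiSeparatedSpace.inter_isCompact _ _ p.1.1.1.2 p.1.1.2.isCompact p.2.1.1.2 p.2.1.2.isCompact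
    obtain ⟨W, hW⟩ := hc.elim_finite_subcover
      (fun V : {V : G.left.affineOpens // V.1 ≤ p.1.1.1 ∧ V.1 ≤ p.2.1.1} => (V.1.1 : Set G.left))
      (fun V => V.1.1.2) (fun x hx => by
        obtain ⟨_, ⟨V, hV, rfl⟩, hxV, hVs⟩ := G.left.isBasis_affineOpens.exists_subset_of_mem_open hx
          (p.1.1.1.2.inter p.2.1.1.2)
        exact Set.mem_iUnion.2 ⟨⟨⟨V, hV⟩, fun y hy => (hVs hy).1, fun y hy => (hVs hy).2⟩, hxV⟩)
    refine ⟨W.image Subtype.val, fun V hV => ?_, fun x hx hx' => ?_⟩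
    · obtain ⟨V', -, rfl⟩ := Finset.mem_image.1 hV
      exact V'.2
    · obtain ⟨V, hV, hxV⟩ := Set.mem_iUnion₂.1 (hW ⟨hx, hx'⟩)
      exact ⟨V.1, Finset.mem_image_of_mem _ hV, hxV⟩
  choose W h1 h2 using h
  exact ⟨W, h1, h2⟩

variable (W : F × F → Finset G.left.affineOpens)
  (hW : ∀ p, ∀ V ∈ W p, V.1 ≤ p.1.1.1 ∧ V.1 ≤ p.2.1.1)

/-- Functions to families. -/
def toP : Γ(G.left, ⊤) →ₗ[R] ∀ j : F, Γ(G.left, j.1.1) :=
  LinearMap.pi fun j => (evA (secPt j.1)).toLinearMap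

/-- The difference of the two restrictions. -/
def dP : (∀ j : F, Γ(G.left, j.1.1)) →ₗ[R] ∀ q : (Σ p : F × F, W p), Γ(G.left, q.2.1.1) :=
  LinearMap.pi fun q =>
    (resAlg (hW q.1 q.2.1 q.2.2).1).toLinearMap.comp (LinearMap.proj q.1.1) -
      (resAlg (hW q.1 q.2.1 q.2.2).2).toLinearMap.comp (LinearMap.proj q.1.2)

theorem toP_injective (hF : ∀ x : G.left, ∃ U ∈ F, x ∈ U.1) : Function.Injective (toP F) := by
  intro a b hab
  refine TopCat.Sheaf.eq_of_locally_eq' G.left.sheaf (fun j : F => j.1.1) ⊤ (fun j => homOfLE le_top)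
    (fun x _ => ?_) a b fun j => ?_
  · obtain ⟨U, hU, hx⟩ := hF x
    exact TopologicalSpace.Opens.mem_iSup.2 ⟨⟨U, hU⟩, hx⟩
  · exact (evA_secPt j.1 a).symm.trans ((congrFun hab j).trans (evA_secPt j.1 b))

theorem exact_toP (hF : ∀ x : G.left, ∃ U ∈ F, x ∈ U.1)
    (hW' : ∀ p : F × F, ∀ x, x ∈ p.1.1.1 → x ∈ p.2.1.1 → ∃ V ∈ W p, x ∈ V.1) :
    Function.Exact (toP F) (dP F W hW) := by
  intro v
  constructor
  · intro hv
    have hc : TopCat.Presheaf.IsCompatible G.left.sheaf.1 (fun j : F => j.1.1) v := by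
      intro i j
      refine TopCat.Sheaf.eq_of_locally_eq' G.left.sheaf (fun V : W (i, j) => V.1.1) (i.1.1 ⊓ j.1.1)
        (fun V => homOfLE (le_inf (hW _ V.1 V.2).1 (hW _ V.1 V.2).2)) (fun x hx => ?_) _ _ fun V => ?_
      · obtain ⟨V, hV, hxV⟩ := hW' (i, j) x hx.1 hx.2
        exact TopologicalSpace.Opens.mem_iSup.2 ⟨⟨V, hV⟩, hxV⟩
      · have h := congrFun hv ⟨(i, j), V⟩
        rw [Pi.zero_apply] at h
        have h' := sub_eq_zero.1 h
        exact (ConcreteCategory.congr_hom (G.left.presheaf.map_comp _ _) (v i)).symm.trans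
          (h'.trans (ConcreteCategory.congr_hom (G.left.presheaf.map_comp _ _) (v j)))
    obtain ⟨a, ha, -⟩ := TopCat.Sheaf.existsUnique_gluing' G.left.sheaf (fun j : F => j.1.1) ⊤
      (fun j => homOfLE le_top) (fun x _ => by
        obtain ⟨U, hU, hx⟩ := hF x
        exact TopologicalSpace.Opens.mem_iSup.2 ⟨⟨U, hU⟩, hx⟩) v hc
    exact ⟨a, funext fun j => (evA_secPt j.1 a).trans (ha j)⟩
  · rintro ⟨a, rfl⟩
    funext q
    refine sub_eq_zero.2 ?_
    show resAlg _ (evA (secPt q.1.1.1) a) = resAlg _ (evA (secPt q.1.2.1) a)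
    rw [← AlgHom.comp_apply, ← AlgHom.comp_apply, ← evA_ptMap, ← evA_ptMap, ptMap_resAlg, ptMap_resAlg]

end Groth.Agent.StableSub
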